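import Groth.Agent.FieldExtLib.CotangentIndex

/-!
Differentials of an algebra generated by elements along which derivations extend freely.
-/

set_option autoImplicit false
set_option linter.style.haveILetI false
universe u
open TensorProduct

namespace Groth.Agent.EisensteinLib

variable {A B L : Type u} [CommRing A] [CommRing B] [Field L] [Algebra A B] [Algebra A L] [Algebra B L]
  [IsScalarTower A B L] {r : ℕ} (y : Fin r → B) (f : Fin r → A)

/-- `L ⊗ Ω_A → L ⊗ Ω_B`. -/
noncomputable def omegaMap (A B L : Type u) [CommRing A] [CommRing B] [Field L] [Algebra A B] [Algebra A L] [Algebra B L]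
    [IsScalarTower A B L] : L ⊗[A] Ω[A⁄ℤ] →ₗ[L] L ⊗[B] Ω[B⁄ℤ] :=
  (((TensorProduct.mk B L Ω[B⁄ℤ]) 1).restrictScalars A ∘ₗ KaehlerDifferential.map ℤ ℤ A B).liftBaseChange L

theorem omegaMap_D (a : A) : omegaMap A B L ((1 : L) ⊗ₜ[A] KaehlerDifferential.D ℤ A a) =
    (1 : L) ⊗ₜ[B] KaehlerDifferential.D ℤ B (algebraMap A B a) := by
  rw [omegaMap, LinearMap.liftBaseChange_tmul, one_smul, LinearMap.comp_apply, KaehlerDifferential.map_D]
  rfl

theorem mk_leibniz {R L : Type u} [CommRing R] [Field L] [Algebra R L]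
    (S : Submodule L (L ⊗[R] Ω[R⁄ℤ])) (a b : R) :
    (Submodule.Quotient.mk ((1 : L) ⊗ₜ[R] KaehlerDifferential.D ℤ R (a * b)) : L ⊗[R] Ω[R⁄ℤ] ⧸ S) =
      a • Submodule.Quotient.mk ((1 : L) ⊗ₜ[R] KaehlerDifferential.D ℤ R b) +
      b • Submodule.Quotient.mk ((1 : L) ⊗ₜ[R] KaehlerDifferential.D ℤ R a) := by
  rw [Derivation.leibniz, TensorProduct.tmul_add, TensorProduct.tmul_smul, TensorProduct.tmul_smul,
    Submodule.Quotient.mk_add, Submodule.Quotient.mk_smul, Submodule.Quotient.mk_smul]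

/-- If `B` is generated by the `y i` and derivations of `A` killing the `f i` extend to `B` with arbitrary
values on the `y i`, and `d f_i ↦ 0`, then `L ⊗ Ω_A → L ⊗ Ω_B` has kernel spanned by the `df_i` and cokernel
`L^r`. -/
theorem ker_coker_omegaMap (hgen : Algebra.adjoin A (Set.range y) = ⊤)
    (hext : ∀ (W : Type u) [AddCommGroup W] [Module L W] [Module A W] [IsScalarTower A L W] [Module B W]
      [IsScalarTower B L W] (δ : Derivation ℤ A W), (∀ i, δ (f i) = 0) → ∀ z : Fin r → W,
      ∃ D : Derivation ℤ B W, (∀ a, D (algebraMap A B a) = δ a) ∧ ∀ i, D (y i) = z i)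
    (hzero : ∀ i, (1 : L) ⊗ₜ[B] KaehlerDifferential.D ℤ B (algebraMap A B (f i)) = 0) :
    LinearMap.ker (omegaMap A B L) =
        Submodule.span L (Set.range fun i => (1 : L) ⊗ₜ[A] KaehlerDifferential.D ℤ A (f i)) ∧
      Nonempty (((L ⊗[B] Ω[B⁄ℤ]) ⧸ LinearMap.range (omegaMap A B L)) ≃ₗ[L] (Fin r → L)) := by
  classical
  set S : Submodule L (L ⊗[A] Ω[A⁄ℤ]) :=
    Submodule.span L (Set.range fun i => (1 : L) ⊗ₜ[A] KaehlerDifferential.D ℤ A (f i)) with hSdef
  let δ : Derivation ℤ A ((L ⊗[A] Ω[A⁄ℤ] ⧸ S) × (Fin r → L)) :=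
    Derivation.mk' (AddMonoidHom.mk'
      (fun a => ((Submodule.Quotient.mk ((1 : L) ⊗ₜ[A] KaehlerDifferential.D ℤ A a) : L ⊗[A] Ω[A⁄ℤ] ⧸ S), (0 : Fin r → L)))
      fun a b => by simp [TensorProduct.tmul_add]).toIntLinearMap fun a b => by
        refine Prod.ext (mk_leibniz S a b) ?_
        show (0 : Fin r → L) = a • (0 : Fin r → L) + b • (0 : Fin r → L)
        rw [smul_zero, smul_zero, add_zero]
  obtain ⟨D, hDA, hDy⟩ := hext _ δ (fun i => by
    refine Prod.ext ?_ rfl
    exact (Submodule.Quotient.mk_eq_zero _).2 (Submodule.subset_span ⟨i, rfl⟩))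
    (fun i => ((0 : L ⊗[A] Ω[A⁄ℤ] ⧸ S), Pi.single i 1))
  let ρ := D.liftKaehlerDifferential.liftBaseChange L
  have hρD : ∀ b, ρ ((1 : L) ⊗ₜ[B] KaehlerDifferential.D ℤ B b) = D b := fun b => by
    show D.liftKaehlerDifferential.liftBaseChange L _ = _
    rw [LinearMap.liftBaseChange_tmul, one_smul, Derivation.liftKaehlerDifferential_comp_D]
  have hρf₂ : ∀ x, ρ (omegaMap A B L x) = ((Submodule.Quotient.mk x : L ⊗[A] Ω[A⁄ℤ] ⧸ S), (0 : Fin r → L)) := by
    intro x
    have : ρ.comp (omegaMap A B L) = LinearMap.inl L _ _ ∘ₗ S.mkQ := by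
      refine LinearMap.ext_on (Groth.Agent.FieldExtLib.span_tmul_D_eq_top L A) ?_
      rintro _ ⟨a, rfl⟩
      rw [LinearMap.comp_apply, omegaMap_D, hρD, hDA]
      rfl
    exact LinearMap.congr_fun this x
  refine ⟨le_antisymm (fun x hx => ?_) (Submodule.span_le.2 ?_), ?_⟩
  · have := hρf₂ x
    rw [LinearMap.mem_ker.1 hx, map_zero] at this
    exact (Submodule.Quotient.mk_eq_zero S).1 (congrArg Prod.fst this).symm
  · rintro _ ⟨i, rfl⟩
    rw [SetLike.mem_coe, LinearMap.mem_ker, omegaMap_D]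
    exact hzero i
  let e : Fin r → L ⊗[B] Ω[B⁄ℤ] := fun i => (1 : L) ⊗ₜ[B] KaehlerDifferential.D ℤ B (y i)
  have hspan : LinearMap.range (omegaMap A B L) ⊔ Submodule.span L (Set.range e) = ⊤ := by
    rw [eq_top_iff]
    refine le_of_eq_of_le (Groth.Agent.FieldExtLib.span_tmul_D_eq_top L B).symm ?_
    rw [Submodule.span_le]
    rintro _ ⟨b, rfl⟩
    let T : Submodule B Ω[B⁄ℤ] :=
      ((LinearMap.range (omegaMap A B L) ⊔ Submodule.span L (Set.range e)).restrictScalars B).comap
        (TensorProduct.mk B L Ω[B⁄ℤ] 1)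
    show KaehlerDifferential.D ℤ B b ∈ T
    have hb : b ∈ Algebra.adjoin A (Set.range y) := by rw [hgen]; trivial
    induction hb using Algebra.adjoin_induction with
    | mem x hx =>
      obtain ⟨i, rfl⟩ := hx
      exact Submodule.mem_sup_right (Submodule.subset_span ⟨i, rfl⟩)
    | algebraMap a => exact Submodule.mem_sup_left ⟨_, omegaMap_D a⟩
    | add x x' _ _ hx hx' => rw [map_add]; exact add_mem hx hx'
    | mul x x' _ _ hx hx' => rw [Derivation.leibniz]; exact add_mem (T.smul_mem _ hx') (T.smul_mem _ hx)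
  let π : L ⊗[B] Ω[B⁄ℤ] →ₗ[L] (Fin r → L) := LinearMap.snd L _ _ ∘ₗ ρ
  have hπe : ∀ i, π (e i) = Pi.single i 1 := fun i => by
    show Prod.snd (ρ _) = _
    rw [hρD, hDy]
  have hπf : ∀ x, π (omegaMap A B L x) = 0 := fun x => congrArg Prod.snd (hρf₂ x)
  have hπker : LinearMap.ker π = LinearMap.range (omegaMap A B L) := by
    refine le_antisymm (fun z hz => ?_) (by rintro _ ⟨x, rfl⟩; exact hπf x)
    obtain ⟨z₁, ⟨x, rfl⟩, z₂, hz₂, rfl⟩ := Submodule.mem_sup.1
      (show z ∈ LinearMap.range (omegaMap A B L) ⊔ Submodule.span L (Set.range e) by rw [hspan]; trivial)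
    obtain ⟨l, rfl⟩ := Submodule.mem_span_range_iff_exists_fun L |>.1 hz₂
    rw [LinearMap.mem_ker, map_add, hπf, zero_add, map_sum] at hz
    have hl : l = 0 := funext fun j => by
      have := congrFun hz j
      simpa [hπe, Finset.sum_apply, Pi.single_apply] using this
    rw [hl]
    simp
  have hπsurj : Function.Surjective π := fun l => ⟨∑ i, l i • e i, by
    funext j
    simp [hπe, Finset.sum_apply, Pi.single_apply]⟩
  exact ⟨(Submodule.quotEquivOfEq _ _ hπker.symm).trans (π.quotKerEquivOfSurjective hπsurj)⟩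

theorem tmul_D_pow_eq_zero {B L : Type u} [CommRing B] [Field L] [Algebra B L] {p : ℕ} (hpL : (p : L) = 0) (y s : B) :
    (1 : L) ⊗ₜ[B] KaehlerDifferential.D ℤ B (y ^ p + (p : B) * s) = 0 := by
  have h0 : ∀ ω : Ω[B⁄ℤ], (1 : L) ⊗ₜ[B] ((p : B) • ω) = 0 := fun ω => by
    rw [TensorProduct.tmul_smul, TensorProduct.smul_tmul', Algebra.smul_def, map_natCast, hpL, zero_mul,
      TensorProduct.zero_tmul]
  rw [map_add, Derivation.leibniz_pow, Derivation.leibniz, Derivation.map_natCast, smul_zero,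
    add_zero, TensorProduct.tmul_add, h0, add_zero, ← Nat.cast_smul_eq_nsmul B, h0]

section Local

open IsLocalRing

variable {A B : Type u} [CommRing A] [IsLocalRing A] [CommRing B] [IsLocalRing B] [Algebra A B]
  [IsLocalHom (algebraMap A B)] [Module.Finite (ResidueField A) (ResidueField B)]
  [IsNoetherianRing A] [IsNoetherianRing B] [IsScalarTower A B (ResidueField B)]
  {r : ℕ} (y : Fin r → B) (f : Fin r → A)

theorem linearIndependent_iff_finrank_cotangent (p : ℕ) [Fact p.Prime] (hp2 : (p : A) ∈ maximalIdeal A ^ 2)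
    (hgen : Algebra.adjoin A (Set.range y) = ⊤)
    (hext : ∀ (W : Type u) [AddCommGroup W] [Module (ResidueField B) W] [Module A W]
      [IsScalarTower A (ResidueField B) W] [Module B W]
      [IsScalarTower B (ResidueField B) W] (δ : Derivation ℤ A W), (∀ i, δ (f i) = 0) → ∀ z : Fin r → W,
      ∃ D : Derivation ℤ B W, (∀ a, D (algebraMap A B a) = δ a) ∧ ∀ i, D (y i) = z i)
    (hzero : ∀ i, (1 : ResidueField B) ⊗ₜ[B] KaehlerDifferential.D ℤ B (algebraMap A B (f i)) = 0) :
    (LinearIndependent (ResidueField A) (fun i => (1 : ResidueField A) ⊗ₜ[A] KaehlerDifferential.D ℤ A (f i)) ↔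
      Module.finrank (ResidueField B) (CotangentSpace B) = Module.finrank (ResidueField A) (CotangentSpace A)) := by
  obtain ⟨hker, ⟨coker₂⟩⟩ := ker_coker_omegaMap (A := A) (B := B) (L := ResidueField B) y f hgen hext hzero
  haveI := Module.Finite.equiv coker₂.symm
  haveI : Module.Finite (ResidueField B) (LinearMap.ker (omegaMap A B (ResidueField B))) := by
    rw [hker]; exact Module.Finite.span_of_finite _ (Set.finite_range _)
  have key := Groth.Agent.FieldExtLib.cotangent_index p hp2 (omegaMap A B (ResidueField B)) (fun a => omegaMap_D a)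
  rw [(LinearEquiv.ofEq _ _ hker).finrank_eq, coker₂.finrank_eq, Module.finrank_fin_fun] at key
  have hiff : LinearIndependent (ResidueField A)
        (fun i => (1 : ResidueField A) ⊗ₜ[A] KaehlerDifferential.D ℤ A (f i)) ↔
      LinearIndependent (ResidueField B)
        (fun i => (1 : ResidueField B) ⊗ₜ[A] KaehlerDifferential.D ℤ A (f i)) := by
    let can := TensorProduct.AlgebraTensorModule.cancelBaseChange A (ResidueField A) (ResidueField B)
      (ResidueField B) Ω[A⁄ℤ]
    have e : ∀ i, can ((1 : ResidueField B) ⊗ₜ[ResidueField A]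
        ((1 : ResidueField A) ⊗ₜ[A] KaehlerDifferential.D ℤ A (f i))) =
        (1 : ResidueField B) ⊗ₜ[A] KaehlerDifferential.D ℤ A (f i) := fun i => by
      rw [TensorProduct.AlgebraTensorModule.cancelBaseChange_tmul, one_smul]
    constructor
    · intro h
      have h' := (Module.Flat.linearIndependent_one_tmul (S := ResidueField B) h).map' can.toLinearMap can.ker
      simpa [Function.comp_def, e] using h'
    · intro h
      have h' := h.map' can.symm.toLinearMap can.symm.ker
      have e' : (can.symm.toLinearMap ∘ fun i =>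
            (1 : ResidueField B) ⊗ₜ[A] KaehlerDifferential.D ℤ A (f i)) =
          (TensorProduct.mk (ResidueField A) (ResidueField B) (ResidueField A ⊗[A] Ω[A⁄ℤ]) 1) ∘
            fun i => (1 : ResidueField A) ⊗ₜ[A] KaehlerDifferential.D ℤ A (f i) :=
        funext fun i => by
          rw [Function.comp_apply, Function.comp_apply, LinearEquiv.coe_coe, ← e, LinearEquiv.symm_apply_apply]
          rfl
      rw [e'] at h'
      exact LinearIndependent.of_comp
        (TensorProduct.mk (ResidueField A) (ResidueField B) (ResidueField A ⊗[A] Ω[A⁄ℤ]) 1)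
        (h'.restrict_scalars' (ResidueField A))
  rw [hiff, linearIndependent_iff_card_eq_finrank_span, Fintype.card_fin, Set.finrank]
  omega

end Local

end Groth.Agent.EisensteinLib
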