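import Groth.Agent.GrSegreLib.Dim
import Groth.Agent.RegLocal.Consequences
import Groth.Agent.EisensteinLib.OmegaMap

/-!
Quotients `A[T]/(T_i^p + p(⋯) - f_i)` of polynomial rings over regular local rings.
-/

set_option autoImplicit false
set_option linter.style.haveILetI false
universe u
open IsLocalRing TensorProduct

namespace Groth.Agent.EisensteinLib.PPower

variable {A : Type u} [CommRing A] (p : ℕ) {r : ℕ} (c : Fin r → Fin p → A) (f : Fin r → A)

/-- The ring `A[T]/(T_i^p + p Σ c_{ij} T_i^{p-j} - f_i)`. -/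
abbrev Ring : Type u :=
  MvPolynomial (Fin r) A ⧸ Ideal.span (Set.range fun i : Fin r =>
    (MvPolynomial.X i : MvPolynomial (Fin r) A) ^ p + (p : MvPolynomial (Fin r) A) * (Finset.univ.sum fun j : Fin p =>
      if (j : ℕ) = 0 then 0 else MvPolynomial.C (c i j) * MvPolynomial.X i ^ (p - (j : ℕ))) - MvPolynomial.C (f i))

/-- The classes of the variables. -/
noncomputable def y (i : Fin r) : Ring p c f := Ideal.Quotient.mkₐ A _ (MvPolynomial.X i)

theorem rel (i : Fin r) :
    algebraMap A (Ring p c f) (f i) = y p c f i ^ p + (p : Ring p c f) * ∑ j : Fin p,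
      if (j : ℕ) = 0 then 0 else algebraMap A (Ring p c f) (c i j) * y p c f i ^ (p - (j : ℕ)) := by
  let π : MvPolynomial (Fin r) A →ₐ[A] Ring p c f := Ideal.Quotient.mkₐ A _
  have h : π (MvPolynomial.X i ^ p + (p : MvPolynomial (Fin r) A) * (Finset.univ.sum fun j : Fin p =>
      if (j : ℕ) = 0 then 0 else MvPolynomial.C (c i j) * MvPolynomial.X i ^ (p - (j : ℕ))) - MvPolynomial.C (f i)) = 0 :=
    Ideal.Quotient.eq_zero_iff_mem.2 (Ideal.subset_span ⟨i, rfl⟩)
  have hC : ∀ a, π (MvPolynomial.C a) = algebraMap A (Ring p c f) a := fun a => π.commutes a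
  simp only [map_sub, map_add, map_mul, map_pow, map_natCast, map_sum, apply_ite, map_zero, hC] at h
  rw [sub_eq_zero] at h
  exact h.symm

theorem adjoin_y : Algebra.adjoin A (Set.range (y p c f)) = ⊤ := by
  let π : MvPolynomial (Fin r) A →ₐ[A] Ring p c f := Ideal.Quotient.mkₐ A _
  rw [show Set.range (y p c f) = π '' Set.range MvPolynomial.X by rw [← Set.range_comp]; rfl, Algebra.adjoin_image,
    MvPolynomial.adjoin_range_X, Algebra.map_top, AlgHom.range_eq_top]
  exact Ideal.Quotient.mk_surjective

theorem exists_lift {E : Type*} [CommRing E] (φ : A →+* E) (z : Fin r → E)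
    (hz : ∀ i, z i ^ p + (p : E) * ∑ j : Fin p, (if (j : ℕ) = 0 then 0 else φ (c i j) * z i ^ (p - (j : ℕ))) = φ (f i)) :
    ∃ w : Ring p c f →+* E, (∀ a, w (algebraMap A _ a) = φ a) ∧ ∀ i, w (y p c f i) = z i := by
  let g := MvPolynomial.eval₂Hom φ z
  have hg : ∀ a, g (MvPolynomial.C a) = φ a := fun a => MvPolynomial.eval₂Hom_C φ z a
  have hX : ∀ i, g (MvPolynomial.X i) = z i := fun i => MvPolynomial.eval₂Hom_X' φ z i
  refine ⟨Ideal.Quotient.lift _ g fun a ha => ?_, fun a => hg a, fun i => hX i⟩
  have hle : Ideal.span (Set.range fun i : Fin r =>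
      (MvPolynomial.X i : MvPolynomial (Fin r) A) ^ p + (p : MvPolynomial (Fin r) A) * (Finset.univ.sum fun j : Fin p =>
        if (j : ℕ) = 0 then 0 else MvPolynomial.C (c i j) * MvPolynomial.X i ^ (p - (j : ℕ))) - MvPolynomial.C (f i)) ≤
      RingHom.ker g := by
    rw [Ideal.span_le]
    rintro _ ⟨i, rfl⟩
    rw [SetLike.mem_coe, RingHom.mem_ker]
    simp only [map_sub, map_add, map_mul, map_pow, map_natCast, map_sum, apply_ite, map_zero, hg, hX]
    exact sub_eq_zero.2 (hz i)
  exact hle ha

theorem exists_root (hp : 0 < p) {E : Type*} [Field E] [IsAlgClosed E] (φ : A →+* E) (i : Fin r) :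
    ∃ z : E, z ^ p + (p : E) * ∑ j : Fin p, (if (j : ℕ) = 0 then 0 else φ (c i j) * z ^ (p - (j : ℕ))) = φ (f i) := by
  let S : Polynomial E := (p : Polynomial E) * ∑ j : Fin p,
    (if (j : ℕ) = 0 then 0 else Polynomial.C (φ (c i j)) * Polynomial.X ^ (p - (j : ℕ))) - Polynomial.C (φ (f i))
  have hS : S.degree < (p : WithBot ℕ) := by
    refine (Polynomial.degree_sub_le _ _).trans_lt (max_lt ?_ ((Polynomial.degree_C_le).trans_lt (by exact_mod_cast hp)))
    rw [← Polynomial.C_eq_natCast]
    refine (Polynomial.degree_mul_le _ _).trans_lt ?_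
    refine (add_le_add_left Polynomial.degree_C_le _).trans_lt ?_
    rw [zero_add]
    refine (Polynomial.degree_sum_le _ _).trans_lt ?_
    rw [Finset.sup_lt_iff (WithBot.bot_lt_coe _)]
    intro j _
    split_ifs with hj
    · rw [Polynomial.degree_zero]; exact WithBot.bot_lt_coe _
    · exact (Polynomial.degree_C_mul_X_pow_le _ _).trans_lt (WithBot.coe_lt_coe.2 (by show p - (j : ℕ) < p; omega))
  have hdeg : (Polynomial.X ^ p + S).degree ≠ 0 := by
    rw [Polynomial.degree_add_eq_left_of_degree_lt (by rwa [Polynomial.degree_X_pow]), Polynomial.degree_X_pow]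
    exact_mod_cast hp.ne'
  obtain ⟨z, hz⟩ := IsAlgClosed.exists_root _ hdeg
  refine ⟨z, sub_eq_zero.1 ?_⟩
  have hev : ∀ j : Fin p, Polynomial.eval z (if (j : ℕ) = 0 then (0 : Polynomial E) else
      Polynomial.C (φ (c i j)) * Polynomial.X ^ (p - (j : ℕ))) =
      if (j : ℕ) = 0 then 0 else φ (c i j) * z ^ (p - (j : ℕ)) := fun j => by split_ifs <;> simp
  simp only [S, Polynomial.IsRoot.def, Polynomial.eval_add, Polynomial.eval_sub, Polynomial.eval_pow, Polynomial.eval_X,
    Polynomial.eval_mul, Polynomial.eval_natCast, Polynomial.eval_C, Polynomial.eval_finsetSum, hev] at hz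
  linear_combination hz

theorem moduleFinite (hp : 0 < p) : Module.Finite A (Ring p c f) := by
  have hy : ∀ i, IsIntegral A (y p c f i) := by
    intro i
    refine ⟨Polynomial.X ^ p + ((p : Polynomial A) * ∑ j : Fin p,
      (if (j : ℕ) = 0 then 0 else Polynomial.C (c i j) * Polynomial.X ^ (p - (j : ℕ))) - Polynomial.C (f i)), ?_, ?_⟩
    · refine Polynomial.monic_X_pow_add ?_
      refine (Polynomial.degree_sub_le _ _).trans_lt (max_lt ?_ ((Polynomial.degree_C_le).trans_lt (by exact_mod_cast hp)))
      rw [← Polynomial.C_eq_natCast]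
      refine (Polynomial.degree_mul_le _ _).trans_lt ?_
      refine (add_le_add_left Polynomial.degree_C_le _).trans_lt ?_
      rw [zero_add]
      refine (Polynomial.degree_sum_le _ _).trans_lt ?_
      rw [Finset.sup_lt_iff (WithBot.bot_lt_coe _)]
      intro j _
      split_ifs with hj
      · rw [Polynomial.degree_zero]; exact WithBot.bot_lt_coe _
      · exact (Polynomial.degree_C_mul_X_pow_le _ _).trans_lt (WithBot.coe_lt_coe.2 (by show p - (j : ℕ) < p; omega))
    · rw [← Polynomial.aeval_def]
      simp only [map_add, map_sub, map_mul, map_pow, map_natCast, map_sum, Polynomial.aeval_X, Polynomial.aeval_C,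
        apply_ite (Polynomial.aeval (y p c f i)), map_zero]
      rw [rel p c f i]
      ring
  haveI : Algebra.IsIntegral A (Ring p c f) := ⟨fun b => by
    have hb : b ∈ Algebra.adjoin A (Set.range (y p c f)) := by rw [adjoin_y]; trivial
    induction hb using Algebra.adjoin_induction with
    | mem z hz => obtain ⟨i, rfl⟩ := hz; exact hy i
    | algebraMap a => exact isIntegral_algebraMap
    | add a b _ _ ha hb => exact ha.add hb
    | mul a b _ _ ha hb => exact ha.mul hb⟩
  exact Algebra.IsIntegral.finite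

theorem injective_algebraMap [IsDomain A] (hp : 0 < p) : Function.Injective (algebraMap A (Ring p c f)) := by
  let φ : A →+* AlgebraicClosure (FractionRing A) :=
    (algebraMap (FractionRing A) (AlgebraicClosure (FractionRing A))).comp (algebraMap A (FractionRing A))
  choose z hz using fun i => exists_root p c f hp φ i
  obtain ⟨w, hw, -⟩ := exists_lift p c f φ z hz
  intro a b hab
  have := congrArg w hab
  rw [hw, hw] at this
  exact IsFractionRing.injective A (FractionRing A)
    ((algebraMap (FractionRing A) (AlgebraicClosure (FractionRing A))).injective this)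

variable [IsLocalRing A]

theorem isLocalRing [Fact p.Prime] [CharP (ResidueField A) p] :
    ∃ _ : IsLocalRing (Ring p c f), IsLocalHom (algebraMap A (Ring p c f)) := by
  have hp := (Fact.out : p.Prime)
  haveI := moduleFinite p c f hp.pos
  haveI : Nontrivial (Ring p c f) := by
    let φ : A →+* AlgebraicClosure (ResidueField A) :=
      (algebraMap (ResidueField A) (AlgebraicClosure (ResidueField A))).comp (residue A)
    choose z hz using fun i => exists_root p c f hp.pos φ i
    obtain ⟨w, -, -⟩ := exists_lift p c f φ z hz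
    exact w.domain_nontrivial
  have hpmem : (p : A) ∈ maximalIdeal A := by
    rw [← residue_eq_zero_iff, map_natCast]; exact CharP.cast_eq_zero _ _
  have hover : ∀ N : Ideal (Ring p c f), N.IsMaximal → N.comap (algebraMap A (Ring p c f)) = maximalIdeal A :=
    fun N hN => IsLocalRing.eq_maximalIdeal (Ideal.isMaximal_comap_of_isIntegral_of_isMaximal N)
  have hle : ∀ M N : Ideal (Ring p c f), M.IsMaximal → N.IsMaximal → M ≤ N := by
    intro M N hM hN b hb
    have hpM : ∀ M : Ideal (Ring p c f), M.IsMaximal → (p : Ring p c f) ∈ M := fun M hM => by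
      rw [← map_natCast (algebraMap A (Ring p c f)) p]
      exact (hover M hM).ge hpmem
    have key : ∀ b : Ring p c f, ∃ a, ∀ M : Ideal (Ring p c f), M.IsMaximal → b ^ p - algebraMap A _ a ∈ M := by
      intro b
      have hb : b ∈ Algebra.adjoin A (Set.range (y p c f)) := by rw [adjoin_y]; trivial
      induction hb using Algebra.adjoin_induction with
      | mem z hz =>
        obtain ⟨i, rfl⟩ := hz
        refine ⟨f i, fun M hM => ?_⟩
        rw [rel p c f i, sub_add_cancel_left]
        exact M.neg_mem (M.mul_mem_right _ (hpM M hM))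
      | algebraMap a => exact ⟨a ^ p, fun M hM => by rw [map_pow, sub_self]; exact M.zero_mem⟩
      | add x z _ _ hx hz =>
        obtain ⟨a, ha⟩ := hx
        obtain ⟨a', ha'⟩ := hz
        obtain ⟨q, hq⟩ := exists_add_pow_prime_eq hp x z
        refine ⟨a + a', fun M hM => ?_⟩
        rw [hq, map_add, show x ^ p + z ^ p + (p : Ring p c f) * x * z * q - (algebraMap A _ a + algebraMap A _ a') =
          (x ^ p - algebraMap A _ a) + (z ^ p - algebraMap A _ a') + (p : Ring p c f) * (x * z * q) by ring]
        exact M.add_mem (M.add_mem (ha M hM) (ha' M hM)) (M.mul_mem_right _ (hpM M hM))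
      | mul x z _ _ hx hz =>
        obtain ⟨a, ha⟩ := hx
        obtain ⟨a', ha'⟩ := hz
        refine ⟨a * a', fun M hM => ?_⟩
        rw [mul_pow, map_mul, show x ^ p * z ^ p - algebraMap A (Ring p c f) a * algebraMap A _ a' =
          (x ^ p - algebraMap A _ a) * z ^ p + algebraMap A _ a * (z ^ p - algebraMap A _ a') by ring]
        exact M.add_mem (M.mul_mem_right _ (ha M hM)) (M.mul_mem_left _ (ha' M hM))
    obtain ⟨a, ha⟩ := key b
    have h1 : a ∈ M.comap (algebraMap A (Ring p c f)) := by
      show algebraMap A _ a ∈ M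
      rw [← sub_sub_cancel (b ^ p) (algebraMap A _ a)]
      exact M.sub_mem (M.pow_mem_of_mem hb p hp.pos) (ha M hM)
    rw [hover M hM, ← hover N hN] at h1
    refine hN.isPrime.mem_of_pow_mem p ?_
    rw [← sub_add_cancel (b ^ p) (algebraMap A _ a)]
    exact N.add_mem (ha N hN) h1
  obtain ⟨M, hM⟩ := Ideal.exists_maximal (Ring p c f)
  haveI hloc : IsLocalRing (Ring p c f) :=
    IsLocalRing.of_unique_max_ideal ⟨M, hM, fun N hN => le_antisymm (hle N M hN hM) (hle M N hM hN)⟩
  exact ⟨hloc, ((IsLocalRing.local_hom_TFAE _).out 4 0).1 (hover _ inferInstance)⟩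

section Omega

variable (L : Type u) [Field L] [Algebra A L] [Algebra (Ring p c f) L] [IsScalarTower A (Ring p c f) L]

omit [IsLocalRing A] in
theorem exists_derivation (hpL : (p : L) = 0) (W : Type u) [AddCommGroup W] [Module L W] [Module A W]
    [IsScalarTower A L W] [Module (Ring p c f) W] [IsScalarTower (Ring p c f) L W]
    (δ : Derivation ℤ A W) (hδ : ∀ i, δ (f i) = 0) (z : Fin r → W) :
    ∃ D : Derivation ℤ (Ring p c f) W, (∀ a, D (algebraMap A (Ring p c f) a) = δ a) ∧ ∀ i, D (y p c f i) = z i := by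
  letI : Module Lᵐᵒᵖ W := Module.compHom W ((RingHom.id L).fromOpposite mul_comm)
  haveI : IsCentralScalar L W := ⟨fun _ _ => rfl⟩
  let φ : A →+* TrivSqZeroExt L W :=
    { toFun := fun a => TrivSqZeroExt.inl (algebraMap A L a) + TrivSqZeroExt.inr (δ a)
      map_one' := by simp
      map_zero' := by simp
      map_add' := fun a b => by
        rw [map_add, map_add, TrivSqZeroExt.inl_add, TrivSqZeroExt.inr_add]; abel
      map_mul' := fun a b => by
        refine TrivSqZeroExt.ext (by simp) ?_
        simp }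
  have hφp : (p : TrivSqZeroExt L W) = 0 := by
    rw [← TrivSqZeroExt.inl_natCast, hpL, TrivSqZeroExt.inl_zero]
  have hyL : ∀ i, algebraMap (Ring p c f) L (y p c f i) ^ p = algebraMap A L (f i) := fun i => by
    rw [IsScalarTower.algebraMap_apply A (Ring p c f) L, rel p c f i, map_add, map_mul, map_natCast, hpL, zero_mul,
      add_zero, map_pow]
  obtain ⟨w, hwA, hwy⟩ := exists_lift p c f φ
    (fun i => TrivSqZeroExt.inl (algebraMap (Ring p c f) L (y p c f i)) + TrivSqZeroExt.inr (z i)) (fun i => by
    rw [hφp, zero_mul, add_zero]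
    refine TrivSqZeroExt.ext ?_ ?_
    · show TrivSqZeroExt.fst ((TrivSqZeroExt.inl _ + TrivSqZeroExt.inr _ : TrivSqZeroExt L W) ^ p) =
        TrivSqZeroExt.fst (TrivSqZeroExt.inl (algebraMap A L (f i)) + TrivSqZeroExt.inr (δ (f i)))
      rw [TrivSqZeroExt.fst_pow]
      simp [hyL]
    · show TrivSqZeroExt.snd ((TrivSqZeroExt.inl _ + TrivSqZeroExt.inr _ : TrivSqZeroExt L W) ^ p) =
        TrivSqZeroExt.snd (TrivSqZeroExt.inl (algebraMap A L (f i)) + TrivSqZeroExt.inr (δ (f i)))
      rw [TrivSqZeroExt.snd_pow, ← Nat.cast_smul_eq_nsmul L, hpL, zero_smul, hδ]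
      simp)
  have hfst : ∀ b : Ring p c f, (w b).fst = algebraMap (Ring p c f) L b := by
    intro b
    have hb : b ∈ Algebra.adjoin A (Set.range (y p c f)) := by rw [adjoin_y]; trivial
    induction hb using Algebra.adjoin_induction with
    | mem x hx => obtain ⟨i, rfl⟩ := hx; rw [hwy]; simp
    | algebraMap a =>
      rw [hwA, ← IsScalarTower.algebraMap_apply]
      show TrivSqZeroExt.fst (TrivSqZeroExt.inl (algebraMap A L a) + TrivSqZeroExt.inr (δ a)) = _
      simp
    | add x x' _ _ hx hx' => rw [map_add, TrivSqZeroExt.fst_add, hx, hx', map_add]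
    | mul x x' _ _ hx hx' => rw [map_mul, TrivSqZeroExt.fst_mul, hx, hx', map_mul]
  refine ⟨Derivation.mk' (AddMonoidHom.mk' (fun b => (w b).snd) fun a b => by
    rw [map_add, TrivSqZeroExt.snd_add]).toIntLinearMap fun a b => ?_, fun a => ?_, fun i => ?_⟩
  · show (w (a * b)).snd = a • (w b).snd + b • (w a).snd
    rw [map_mul, TrivSqZeroExt.snd_mul, op_smul_eq_smul, hfst, hfst, algebraMap_smul, algebraMap_smul]
  · show (w (algebraMap A _ a)).snd = δ a
    rw [hwA]
    show TrivSqZeroExt.snd (TrivSqZeroExt.inl (algebraMap A L a) + TrivSqZeroExt.inr (δ a)) = _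
    simp
  · show (w (y p c f i)).snd = z i
    rw [hwy]
    simp

end Omega

/-- The cotangent space of `A[T]/(F)`, counted. -/
theorem finrank_cotangent [IsNoetherianRing A] [Fact p.Prime] [CharP (ResidueField A) p]
    (hp2 : (p : A) ∈ maximalIdeal A ^ 2) [IsLocalRing (Ring p c f)] [IsNoetherianRing (Ring p c f)]
    [IsLocalHom (algebraMap A (Ring p c f))] [Module.Finite A (Ring p c f)] :
    (LinearIndependent (ResidueField A) (fun i => (1 : ResidueField A) ⊗ₜ[A] KaehlerDifferential.D ℤ A (f i)) ↔
      Module.finrank (ResidueField (Ring p c f)) (CotangentSpace (Ring p c f)) =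
        Module.finrank (ResidueField A) (CotangentSpace A)) := by
  have hpL : (p : ResidueField (Ring p c f)) = 0 := by
    exact (map_natCast (algebraMap (ResidueField A) (ResidueField (Ring p c f))) p).symm.trans
      ((congrArg _ (CharP.cast_eq_zero (ResidueField A) p)).trans (map_zero _))
  haveI : IsScalarTower A (Ring p c f) (ResidueField (Ring p c f)) :=
    IsScalarTower.of_algebraMap_eq (R := A) (S := Ring p c f) (A := ResidueField (Ring p c f)) fun _ => rfl
  refine Groth.Agent.EisensteinLib.linearIndependent_iff_finrank_cotangent (B := Ring p c f) (y p c f) f p hp2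
    (adjoin_y p c f) (fun W _ _ _ _ _ _ δ hδ z => exists_derivation p c f _ hpL W δ hδ z) fun i => ?_
  exact (congrArg (fun b => (1 : ResidueField (Ring p c f)) ⊗ₜ[Ring p c f] KaehlerDifferential.D ℤ (Ring p c f) b)
    (rel p c f i)).trans (Groth.Agent.EisensteinLib.tmul_D_pow_eq_zero hpL _ _)

/-- Over a regular local ring with `p ∈ m²`, `A[T]/(F)` is regular iff the `df_i ⊗ 1` are independent. -/
theorem isRegularRing_iff [IsRegularLocalRing A] [Fact p.Prime] [CharP (ResidueField A) p]
    (hp2 : (p : A) ∈ maximalIdeal A ^ 2) :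
    IsLocalRing (Ring p c f) ∧ (IsRegularRing (Ring p c f) ↔
      LinearIndependent (ResidueField A) (fun i => (1 : ResidueField A) ⊗ₜ[A] KaehlerDifferential.D ℤ A (f i))) := by
  haveI : IsDomain A := Groth.Agent.RegLocal.isDomain A
  have hp0 : 0 < p := (Fact.out : p.Prime).pos
  obtain ⟨hloc, hlh⟩ := isLocalRing p c f
  refine ⟨hloc, ?_⟩
  haveI := moduleFinite p c f hp0
  haveI : IsNoetherianRing (Ring p c f) := IsNoetherianRing.of_finite A _
  have hdim : ringKrullDim A = ringKrullDim (Ring p c f) :=
    Groth.Agent.GrSegreLib.ringKrullDim_eq_of_integral_injective (algebraMap A (Ring p c f))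
      (injective_algebraMap p c f hp0) (RingHom.IsIntegral.of_finite (RingHom.finite_algebraMap.2 inferInstance))
  have hA := (IsRegularLocalRing.iff_finrank_cotangentSpace A).1 inferInstance
  have h1 : IsRegularRing (Ring p c f) ↔ IsRegularLocalRing (Ring p c f) := by
    refine ⟨fun h => IsRegularLocalRing.of_isRegularRing_of_isLocalRing _, fun h => ?_⟩
    exact ⟨fun q _ => Groth.Agent.RegLocal.isRegularLocalRing_localization _ q⟩
  rw [h1, IsRegularLocalRing.iff_finrank_cotangentSpace, ← hdim, ← hA, finrank_cotangent p c f hp2]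
  exact_mod_cast Iff.rfl

end Groth.Agent.EisensteinLib.PPower
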