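import Mathlib

/-!
Quotients of polynomial rings over local rings by separated Eisenstein-like polynomials.
-/

set_option autoImplicit false
universe u
open IsLocalRing

namespace Groth.Agent.EisensteinLib

variable {A : Type u} [CommRing A] {r : ℕ} (d : Fin r → ℕ) (c : Fin r → ℕ → A)

/-- The ring `A[T]/(T_i^{d_i} + Σ c_{ik} T_i^k)`. -/
abbrev Ring : Type u :=
  MvPolynomial (Fin r) A ⧸ Ideal.span (Set.range fun i : Fin r =>
    (MvPolynomial.X i : MvPolynomial (Fin r) A) ^ d i + (Finset.range (d i)).sum fun k => MvPolynomial.C (c i k) * MvPolynomial.X i ^ k)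

/-- The classes of the variables. -/
noncomputable def y (i : Fin r) : Ring d c := Ideal.Quotient.mkₐ A _ (MvPolynomial.X i)

theorem rel (i : Fin r) :
    y d c i ^ d i + ∑ k ∈ Finset.range (d i), algebraMap A (Ring d c) (c i k) * y d c i ^ k = 0 := by
  unfold y
  simp only [← map_pow, ← AlgHom.commutes (Ideal.Quotient.mkₐ A (Ideal.span (Set.range fun i =>
    MvPolynomial.X i ^ d i + (Finset.range (d i)).sum fun k => MvPolynomial.C (c i k) * MvPolynomial.X i ^ k))),
    ← map_mul, ← map_sum, ← map_add]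
  exact Ideal.Quotient.eq_zero_iff_mem.2 (Ideal.subset_span ⟨i, rfl⟩)

theorem adjoin_y : Algebra.adjoin A (Set.range (y d c)) = ⊤ := by
  rw [show Set.range (y d c) = Ideal.Quotient.mkₐ A (Ideal.span (Set.range fun i =>
    MvPolynomial.X i ^ d i + (Finset.range (d i)).sum fun k => MvPolynomial.C (c i k) * MvPolynomial.X i ^ k)) ''
      Set.range MvPolynomial.X by rw [← Set.range_comp]; rfl, Algebra.adjoin_image,
    MvPolynomial.adjoin_range_X, Algebra.map_top, AlgHom.range_eq_top]
  exact Ideal.Quotient.mk_surjective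

theorem exists_lift {E : Type*} [CommRing E] [Algebra A E] (z : Fin r → E)
    (hz : ∀ i, z i ^ d i + ∑ k ∈ Finset.range (d i), algebraMap A E (c i k) * z i ^ k = 0) :
    ∃ w : Ring d c →ₐ[A] E, ∀ i, w (y d c i) = z i := by
  refine ⟨Ideal.Quotient.liftₐ _ (MvPolynomial.aeval z) fun a ha => ?_, fun i => MvPolynomial.aeval_X z i⟩
  have hle : Ideal.span (Set.range fun i =>
      MvPolynomial.X i ^ d i + (Finset.range (d i)).sum fun k => MvPolynomial.C (c i k) * MvPolynomial.X i ^ k) ≤
      RingHom.ker (MvPolynomial.aeval (R := A) z) :=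
    Ideal.span_le.2 (by rintro _ ⟨i, rfl⟩; simpa using hz i)
  exact hle ha

theorem isIntegral_y (hd : ∀ i, 0 < d i) (i : Fin r) : IsIntegral A (y d c i) := by
  refine ⟨Polynomial.X ^ d i + ∑ k ∈ Finset.range (d i), Polynomial.C (c i k) * Polynomial.X ^ k, ?_, ?_⟩
  · refine Polynomial.monic_X_pow_add ((Polynomial.degree_sum_le _ _).trans_lt ?_)
    rw [Finset.sup_lt_iff (WithBot.bot_lt_coe _)]
    intro k hk
    exact (Polynomial.degree_C_mul_X_pow_le _ _).trans_lt (WithBot.coe_lt_coe.2 (Finset.mem_range.1 hk))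
  · rw [Polynomial.eval₂_add, Polynomial.eval₂_X_pow, Polynomial.eval₂_finsetSum]
    refine Eq.trans ?_ (rel d c i)
    congr 1
    refine Finset.sum_congr rfl fun k _ => ?_
    rw [Polynomial.eval₂_mul, Polynomial.eval₂_C, Polynomial.eval₂_X_pow]

theorem moduleFinite (hd : ∀ i, 0 < d i) : Module.Finite A (Ring d c) := by
  haveI : Algebra.IsIntegral A (Ring d c) := ⟨fun b => by
    have hb : b ∈ Algebra.adjoin A (Set.range (y d c)) := by rw [adjoin_y]; trivial
    induction hb using Algebra.adjoin_induction with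
    | mem z hz => obtain ⟨i, rfl⟩ := hz; exact isIntegral_y d c hd i
    | algebraMap a => exact isIntegral_algebraMap
    | add a b _ _ ha hb => exact ha.add hb
    | mul a b _ _ ha hb => exact ha.mul hb⟩
  exact Algebra.IsIntegral.finite

variable [IsLocalRing A]

/-- The augmentation to the residue field. -/
theorem exists_augmentation (hd : ∀ i, 0 < d i) (hc : ∀ i k, c i k ∈ maximalIdeal A) :
    ∃ w : Ring d c →ₐ[A] ResidueField A, ∀ i, w (y d c i) = 0 := by
  refine exists_lift d c (fun _ => (0 : ResidueField A)) fun i => ?_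
  rw [zero_pow (hd i).ne', zero_add]
  refine Finset.sum_eq_zero fun k _ => ?_
  rw [show algebraMap A (ResidueField A) (c i k) = 0 from (residue_eq_zero_iff _).2 (hc i k), zero_mul]

theorem isLocalRing (hd : ∀ i, 0 < d i) (hc : ∀ i k, c i k ∈ maximalIdeal A) :
    ∃ _ : IsLocalRing (Ring d c),
      maximalIdeal (Ring d c) = (maximalIdeal A).map (algebraMap A (Ring d c)) ⊔ Ideal.span (Set.range (y d c)) ∧
      Function.Surjective ((Ideal.Quotient.mk (maximalIdeal (Ring d c))).comp (algebraMap A (Ring d c))) := by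
  obtain ⟨w, hw⟩ := exists_augmentation d c hd hc
  haveI := moduleFinite d c hd
  set M := (maximalIdeal A).map (algebraMap A (Ring d c)) ⊔ Ideal.span (Set.range (y d c)) with hM
  have hrep : ∀ b : Ring d c, ∃ a, b - algebraMap A _ a ∈ M := by
    intro b
    have hb : b ∈ Algebra.adjoin A (Set.range (y d c)) := by rw [adjoin_y]; trivial
    induction hb using Algebra.adjoin_induction with
    | mem z hz => exact ⟨0, by rw [map_zero, sub_zero]; exact Submodule.mem_sup_right (Ideal.subset_span hz)⟩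
    | algebraMap a => exact ⟨a, by rw [sub_self]; exact M.zero_mem⟩
    | add x z _ _ hx hz =>
      obtain ⟨a, ha⟩ := hx
      obtain ⟨a', ha'⟩ := hz
      exact ⟨a + a', by rw [map_add, add_sub_add_comm]; exact M.add_mem ha ha'⟩
    | mul x z _ _ hx hz =>
      obtain ⟨a, ha⟩ := hx
      obtain ⟨a', ha'⟩ := hz
      refine ⟨a * a', ?_⟩
      rw [map_mul, show x * z - algebraMap A (Ring d c) a * algebraMap A _ a' =
        (x - algebraMap A _ a) * z + algebraMap A _ a * (z - algebraMap A _ a') by ring]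
      exact M.add_mem (M.mul_mem_right _ ha) (M.mul_mem_left _ ha')
  have hker : RingHom.ker w.toRingHom = M := by
    refine le_antisymm (fun b hb => ?_) (sup_le (Ideal.map_le_iff_le_comap.2 fun a ha => ?_) (Ideal.span_le.2 ?_))
    · obtain ⟨a, ha⟩ := hrep b
      have h1 : w (b - algebraMap A _ a) = 0 := by
        suffices M ≤ RingHom.ker w.toRingHom from this ha
        refine sup_le (Ideal.map_le_iff_le_comap.2 fun x hx => ?_) (Ideal.span_le.2 ?_)
        · show w (algebraMap A _ x) = 0
          rw [AlgHom.commutes]; exact (residue_eq_zero_iff _).2 hx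
        · rintro _ ⟨i, rfl⟩; exact hw i
      rw [map_sub, show w b = 0 from hb, zero_sub, neg_eq_zero, AlgHom.commutes] at h1
      rw [← sub_add_cancel b (algebraMap A _ a)]
      exact M.add_mem ha (Submodule.mem_sup_left (Ideal.mem_map_of_mem _ ((residue_eq_zero_iff _).1 h1)))
    · show w (algebraMap A _ a) = 0
      rw [AlgHom.commutes]; exact (residue_eq_zero_iff _).2 ha
    · rintro _ ⟨i, rfl⟩; exact hw i
  haveI hMmax : M.IsMaximal := hker ▸ RingHom.ker_isMaximal_of_surjective _ (fun z => by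
    obtain ⟨a, rfl⟩ := residue_surjective z
    exact ⟨algebraMap A _ a, w.commutes a⟩)
  have huniq : ∀ N : Ideal (Ring d c), N.IsMaximal → N = M := by
    intro N hN
    have h1 : N.comap (algebraMap A (Ring d c)) = maximalIdeal A :=
      IsLocalRing.eq_maximalIdeal (Ideal.isMaximal_comap_of_isIntegral_of_isMaximal N)
    refine (hMmax.eq_of_le hN.ne_top (sup_le (Ideal.map_le_iff_le_comap.2 h1.ge) (Ideal.span_le.2 ?_))).symm
    rintro _ ⟨i, rfl⟩
    refine hN.isPrime.mem_of_pow_mem (d i) ?_
    rw [eq_neg_of_add_eq_zero_left (rel d c i)]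
    refine N.neg_mem (Ideal.sum_mem _ fun k _ => N.mul_mem_right _ ?_)
    exact h1.ge (hc i k)
  haveI hloc : IsLocalRing (Ring d c) := IsLocalRing.of_unique_max_ideal ⟨M, hMmax, huniq⟩
  have hmax : maximalIdeal (Ring d c) = M := huniq _ inferInstance
  refine ⟨hloc, hmax, fun z => ?_⟩
  obtain ⟨b, rfl⟩ := Ideal.Quotient.mk_surjective z
  obtain ⟨a, ha⟩ := hrep b
  refine ⟨a, ?_⟩
  rw [RingHom.comp_apply, eq_comm, Ideal.Quotient.eq, hmax]
  exact ha

/-- The constant terms lie in the square of the maximal ideal; conversely. -/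
theorem comap_sq (hd : ∀ i, 2 ≤ d i) (hc : ∀ i k, c i k ∈ maximalIdeal A) [IsLocalRing (Ring d c)]
    (hmax : maximalIdeal (Ring d c) = (maximalIdeal A).map (algebraMap A (Ring d c)) ⊔ Ideal.span (Set.range (y d c))) :
    (maximalIdeal (Ring d c) ^ 2).comap (algebraMap A (Ring d c)) =
      Ideal.span (Set.range fun i => c i 0) ⊔ maximalIdeal A ^ 2 := by
  classical
  have hy : ∀ i, y d c i ∈ maximalIdeal (Ring d c) := fun i => by
    rw [hmax]; exact Submodule.mem_sup_right (Ideal.subset_span ⟨i, rfl⟩)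
  have hA : ∀ a ∈ maximalIdeal A, algebraMap A (Ring d c) a ∈ maximalIdeal (Ring d c) := fun a ha => by
    rw [hmax]; exact Submodule.mem_sup_left (Ideal.mem_map_of_mem _ ha)
  refine le_antisymm ?_ (sup_le (Ideal.span_le.2 ?_) ?_)
  · intro a ha
    -- the test ring
    let N := Ideal.span (Set.range fun i => c i 0) ⊔ maximalIdeal A ^ 2
    let Q := A ⧸ N
    have hN : N ≤ maximalIdeal A := sup_le (Ideal.span_le.2 (by rintro _ ⟨i, rfl⟩; exact hc i 0)) (Ideal.pow_le_self two_ne_zero)
    let π : Q →+* ResidueField A := Ideal.Quotient.factor hN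
    let W := Fin r → ResidueField A
    letI : Module Q W := Module.compHom W π
    letI : Module Qᵐᵒᵖ W := Module.compHom W ((RingHom.id Q).fromOpposite mul_comm)
    haveI : IsCentralScalar Q W := ⟨fun _ _ => rfl⟩
    letI : Algebra A (TrivSqZeroExt Q W) := ((TrivSqZeroExt.inlHom Q W).comp (Ideal.Quotient.mk N)).toAlgebra
    have hal : ∀ a : A, algebraMap A (TrivSqZeroExt Q W) a = TrivSqZeroExt.inl (Ideal.Quotient.mk N a) := fun _ => rfl
    have hπ : ∀ x, Ideal.Quotient.mk N x • (0 : W) = 0 := fun x => smul_zero _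
    obtain ⟨w, hw⟩ := exists_lift d c (fun i => (TrivSqZeroExt.inr (Pi.single i 1) : TrivSqZeroExt Q W)) (fun i => by
      have hpow : ∀ n, 2 ≤ n → (TrivSqZeroExt.inr (Pi.single i 1) : TrivSqZeroExt Q W) ^ n = 0 := by
        intro n hn
        obtain ⟨m, rfl⟩ := Nat.exists_eq_add_of_le hn
        rw [pow_add, pow_two, TrivSqZeroExt.inr_mul_inr, zero_mul]
      rw [hpow _ (hd i), zero_add]
      refine Finset.sum_eq_zero fun k _ => ?_
      rw [hal]
      rcases Nat.lt_or_ge k 2 with h | h
      · interval_cases k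
        · rw [pow_zero, mul_one]
          rw [show Ideal.Quotient.mk N (c i 0) = 0 from Ideal.Quotient.eq_zero_iff_mem.2
            (Submodule.mem_sup_left (Ideal.subset_span ⟨i, rfl⟩)), TrivSqZeroExt.inl_zero]
        · rw [pow_one, TrivSqZeroExt.inl_mul_inr]
          refine TrivSqZeroExt.ext (by simp) ?_
          rw [TrivSqZeroExt.snd_inr, TrivSqZeroExt.snd_zero]
          funext l
          show residue A (c i 1) * _ = 0
          rw [(residue_eq_zero_iff _).2 (hc i 1), zero_mul]
      · rw [hpow _ h, mul_zero])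
    have h1 : w (algebraMap A (Ring d c) a) ∈ ((maximalIdeal (Ring d c) ^ 2).map w.toRingHom) := Ideal.mem_map_of_mem _ ha
    let S : Ideal (TrivSqZeroExt Q W) := (maximalIdeal (Ring d c)).map w.toRingHom
    have hS : S ≤ ((maximalIdeal A).map (Ideal.Quotient.mk N)).comap (TrivSqZeroExt.fstHom Q Q W).toRingHom := by
      show Ideal.map _ _ ≤ _
      rw [hmax, Ideal.map_sup, Ideal.map_map, Ideal.map_span]
      refine sup_le (Ideal.map_le_iff_le_comap.2 fun x hx => ?_) (Ideal.span_le.2 ?_)
      · show (w (algebraMap A _ x)).fst ∈ (maximalIdeal A).map (Ideal.Quotient.mk N)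
        rw [AlgHom.commutes, hal, TrivSqZeroExt.fst_inl]
        exact Ideal.mem_map_of_mem _ hx
      · rintro _ ⟨_, ⟨i, rfl⟩, rfl⟩
        show (w (y d c i)).fst ∈ (maximalIdeal A).map (Ideal.Quotient.mk N)
        rw [hw, TrivSqZeroExt.fst_inr]
        exact Ideal.zero_mem _
    have hS2 : S ^ 2 ≤ ⊥ := by
      rw [pow_two, Ideal.mul_le]
      intro u hu v hv
      rw [Submodule.mem_bot]
      obtain ⟨x, hx, hxu⟩ := (Ideal.mem_map_iff_of_surjective _ Ideal.Quotient.mk_surjective).1 (hS hu)
      obtain ⟨x', hx', hxv⟩ := (Ideal.mem_map_iff_of_surjective _ Ideal.Quotient.mk_surjective).1 (hS hv)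
      have hu0 : u.fst = Ideal.Quotient.mk N x := hxu.symm
      have hv0 : v.fst = Ideal.Quotient.mk N x' := hxv.symm
      refine TrivSqZeroExt.ext ?_ ?_
      · rw [TrivSqZeroExt.fst_mul, hu0, hv0, ← map_mul, TrivSqZeroExt.fst_zero, Ideal.Quotient.eq_zero_iff_mem]
        refine Submodule.mem_sup_right ?_
        rw [pow_two]; exact Ideal.mul_mem_mul hx hx'
      · rw [TrivSqZeroExt.snd_mul, hu0, hv0, op_smul_eq_smul, TrivSqZeroExt.snd_zero]
        funext l
        show residue A x * _ + residue A x' * _ = 0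
        rw [(residue_eq_zero_iff _).2 hx, (residue_eq_zero_iff _).2 hx', zero_mul, zero_mul, add_zero]
    rw [Ideal.map_pow] at h1
    have h2 := hS2 h1
    rw [Submodule.mem_bot, AlgHom.commutes, hal, ← TrivSqZeroExt.inl_zero] at h2
    exact Ideal.Quotient.eq_zero_iff_mem.1 (TrivSqZeroExt.inl_injective h2)
  · rintro _ ⟨i, rfl⟩
    show algebraMap A (Ring d c) (c i 0) ∈ maximalIdeal (Ring d c) ^ 2
    obtain ⟨n, hn⟩ : ∃ n, d i = n + 1 := ⟨d i - 1, by have := hd i; omega⟩
    have h0 := rel d c i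
    rw [hn, Finset.sum_range_succ', pow_zero, mul_one] at h0
    rw [show algebraMap A (Ring d c) (c i 0) = -(y d c i ^ (n + 1) +
      ∑ k ∈ Finset.range n, algebraMap A (Ring d c) (c i (k + 1)) * y d c i ^ (k + 1)) by linear_combination h0]
    refine (maximalIdeal (Ring d c) ^ 2).neg_mem (Ideal.add_mem _ ?_ (Ideal.sum_mem _ fun k _ => ?_))
    · exact Ideal.pow_le_pow_right (by have := hd i; omega) (Ideal.pow_mem_pow (hy i) _)
    · rw [pow_two]
      exact Ideal.mul_mem_mul (hA _ (hc i _)) (Ideal.pow_mem_of_mem _ (hy i) _ k.succ_pos)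
  · rw [← Ideal.map_le_iff_le_comap, Ideal.map_pow]
    exact Ideal.pow_right_mono (by rw [hmax]; exact le_sup_left) 2

end Groth.Agent.EisensteinLib
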