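import Groth.Agent.EisensteinLib.Basic
import Groth.Agent.GrSegreLib.Dim
import Groth.Agent.RegLocal.Consequences

/-!
Regularity of quotients of polynomial rings over regular local rings by Eisenstein-like polynomials.
-/

set_option autoImplicit false
set_option linter.style.haveILetI false
universe u
open IsLocalRing

namespace Groth.Agent.EisensteinLib

variable {A : Type u} [CommRing A] {r : ℕ} (d : Fin r → ℕ) (c : Fin r → ℕ → A)

theorem injective_algebraMap [IsDomain A] (hd : ∀ i, 0 < d i) :
    Function.Injective (algebraMap A (Ring d c)) := by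
  let E := AlgebraicClosure (FractionRing A)
  have hroot : ∀ i, ∃ z : E, z ^ d i + ∑ k ∈ Finset.range (d i), algebraMap A E (c i k) * z ^ k = 0 := by
    intro i
    let P : Polynomial E := Polynomial.X ^ d i + ∑ k ∈ Finset.range (d i), Polynomial.C (algebraMap A E (c i k)) * Polynomial.X ^ k
    have hlt : (∑ k ∈ Finset.range (d i), Polynomial.C (algebraMap A E (c i k)) * Polynomial.X ^ k).degree < (d i : WithBot ℕ) := by
      refine (Polynomial.degree_sum_le _ _).trans_lt ?_
      rw [Finset.sup_lt_iff (WithBot.bot_lt_coe _)]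
      intro k hk
      exact (Polynomial.degree_C_mul_X_pow_le _ _).trans_lt (WithBot.coe_lt_coe.2 (Finset.mem_range.1 hk))
    have hP : P.degree ≠ 0 := by
      rw [Polynomial.degree_add_eq_left_of_degree_lt (by rwa [Polynomial.degree_X_pow]), Polynomial.degree_X_pow]
      exact_mod_cast (hd i).ne'
    obtain ⟨z, hz⟩ := IsAlgClosed.exists_root P hP
    refine ⟨z, ?_⟩
    simpa [P, Polynomial.eval_finsetSum] using hz
  choose z hz using hroot
  obtain ⟨w, -⟩ := exists_lift d c z hz
  intro a b hab
  have := congrArg w hab
  rw [AlgHom.commutes, AlgHom.commutes, IsScalarTower.algebraMap_apply A (FractionRing A) E,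
    IsScalarTower.algebraMap_apply A (FractionRing A) E] at this
  exact IsFractionRing.injective A (FractionRing A) ((algebraMap (FractionRing A) E).injective this)

variable [IsLocalRing A]

/-- The cotangent space of `A[T]/(F)`, counted. -/
theorem finrank_cotangent [IsNoetherianRing A] (hd : ∀ i, 2 ≤ d i) (hc : ∀ i k, c i k ∈ maximalIdeal A)
    [IsLocalRing (Ring d c)] [IsNoetherianRing (Ring d c)] :
    Module.finrank (ResidueField (Ring d c)) (CotangentSpace (Ring d c)) +
      Module.finrank (ResidueField A)
        (Submodule.span (ResidueField A) (Set.range fun i => (maximalIdeal A).toCotangent ⟨c i 0, hc i 0⟩)) =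
      Module.finrank (ResidueField A) (CotangentSpace A) + r := by
  classical
  obtain ⟨_, hmax, hsurj⟩ := isLocalRing d c (fun i => lt_of_lt_of_le two_pos (hd i)) hc
  let B := Ring d c
  let K := ResidueField A
  have hKsurj : Function.Surjective (algebraMap A K) := residue_surjective
  have hBsurj : Function.Surjective (algebraMap A (ResidueField B)) := hsurj
  have hzero : ∀ a ∈ maximalIdeal A, ∀ z : CotangentSpace B, a • z = 0 := fun a ha z => by
    rw [← algebraMap_smul B a z]
    exact Ideal.Cotangent.smul_eq_zero_of_mem (by rw [hmax]; exact Submodule.mem_sup_left (Ideal.mem_map_of_mem _ ha)) z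
  haveI : IsScalarTower A (ResidueField B) (CotangentSpace B) := IsScalarTower.of_algebraMap_smul fun a z => by
    rw [← algebraMap_smul B a z, IsScalarTower.algebraMap_apply A B (ResidueField B), algebraMap_smul]
  have hy : ∀ i, y d c i ∈ maximalIdeal B := fun i => by
    rw [hmax]; exact Submodule.mem_sup_right (Ideal.subset_span ⟨i, rfl⟩)
  have hmap : maximalIdeal A ≤ (maximalIdeal B).comap (Algebra.ofId A B) := fun a ha => by
    show algebraMap A B a ∈ maximalIdeal B
    rw [hmax]; exact Submodule.mem_sup_left (Ideal.mem_map_of_mem _ ha)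
  let ι : CotangentSpace A →ₗ[A] CotangentSpace B := Ideal.mapCotangent _ _ (Algebra.ofId A B) hmap
  -- the projection onto the coordinates of the variables
  obtain ⟨w, hw⟩ := exists_lift d c (fun i => (TrivSqZeroExt.inr (Pi.single i 1) : TrivSqZeroExt K (Fin r → K))) (fun i => by
    have hsq : (TrivSqZeroExt.inr (Pi.single i 1) : TrivSqZeroExt K (Fin r → K)) ^ d i = 0 := by
      obtain ⟨m, hm⟩ := Nat.exists_eq_add_of_le (hd i)
      rw [hm, pow_add, pow_two, TrivSqZeroExt.inr_mul_inr, zero_mul]
    rw [hsq, zero_add]
    refine Finset.sum_eq_zero fun k _ => ?_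
    rw [IsScalarTower.algebraMap_apply A K (TrivSqZeroExt K (Fin r → K)),
      show algebraMap A K (c i k) = 0 from (residue_eq_zero_iff _).2 (hc i k), map_zero, zero_mul])
  have hfst : ∀ b ∈ maximalIdeal B, (w b).fst = 0 := by
    intro b hb
    have h : maximalIdeal B ≤ RingHom.ker ((TrivSqZeroExt.fstHom K K (Fin r → K)).toRingHom.comp w.toRingHom) := by
      rw [hmax]
      refine sup_le (Ideal.map_le_iff_le_comap.2 fun a ha => ?_) (Ideal.span_le.2 ?_)
      · show (w (algebraMap A B a)).fst = 0
        rw [AlgHom.commutes, IsScalarTower.algebraMap_apply A K (TrivSqZeroExt K (Fin r → K)),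
          show algebraMap A K a = 0 from (residue_eq_zero_iff _).2 ha, map_zero, TrivSqZeroExt.fst_zero]
      · rintro _ ⟨i, rfl⟩
        show (w (y d c i)).fst = 0
        rw [hw, TrivSqZeroExt.fst_inr]
    exact h hb
  let f : maximalIdeal B →ₗ[A] (Fin r → K) :=
    { toFun := fun b => (w b.1).snd
      map_add' := fun b b' => by
        show (w (b.1 + b'.1)).snd = _
        rw [map_add, TrivSqZeroExt.snd_add]
      map_smul' := fun a b => by
        show (w (a • b.1)).snd = a • (w b.1).snd
        rw [map_smul]
        rfl }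
  let g : CotangentSpace B →ₗ[A] (Fin r → K) := Ideal.Cotangent.lift f fun x x' => by
    show (w (x.1 * x'.1)).snd = 0
    rw [map_mul, TrivSqZeroExt.snd_mul, hfst _ x.2, hfst _ x'.2]
    simp
  have hgy : ∀ i, g ((maximalIdeal B).toCotangent ⟨y d c i, hy i⟩) = Pi.single i 1 := fun i => by
    rw [Ideal.Cotangent.lift_toCotangent]
    show (w (y d c i)).snd = _
    rw [hw, TrivSqZeroExt.snd_inr]
  have hgι : ∀ u, g (ι u) = 0 := fun u => by
    obtain ⟨x, rfl⟩ := (maximalIdeal A).toCotangent_surjective u
    rw [Ideal.mapCotangent_toCotangent, Ideal.Cotangent.lift_toCotangent]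
    show (w (algebraMap A B x.1)).snd = 0
    rw [AlgHom.commutes, IsScalarTower.algebraMap_apply A K (TrivSqZeroExt K (Fin r → K)),
      show algebraMap A K x.1 = 0 from (residue_eq_zero_iff _).2 x.2, map_zero, TrivSqZeroExt.snd_zero]
  let P : Submodule A (CotangentSpace B) := LinearMap.range ι ⊔
    Submodule.span A (Set.range fun i => (maximalIdeal B).toCotangent ⟨y d c i, hy i⟩)
  have hP : ∀ b : B, ∀ z ∈ P, b • z ∈ P := fun b z hz => by
    obtain ⟨a, ha⟩ := hsurj (Ideal.Quotient.mk _ b)
    rw [RingHom.comp_apply, eq_comm, Ideal.Quotient.eq] at ha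
    rw [show b • z = a • z by
      rw [← algebraMap_smul B a z]
      obtain ⟨x, rfl⟩ := (maximalIdeal B).toCotangent_surjective z
      rw [← map_smul, ← map_smul, Ideal.toCotangent_eq]
      show b * x.1 - algebraMap A B a * x.1 ∈ _
      rw [← sub_mul, pow_two]
      exact Ideal.mul_mem_mul ha x.2]
    exact P.smul_mem a hz
  have hgen : P = ⊤ := by
    rw [eq_top_iff]
    rintro z -
    obtain ⟨⟨b, hb⟩, rfl⟩ := (maximalIdeal B).toCotangent_surjective z
    have key : b ∈ Ideal.span ((algebraMap A B '' maximalIdeal A) ∪ Set.range (y d c)) := by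
      rw [Ideal.span_union]
      rwa [hmax] at hb
    have hle : Ideal.span ((algebraMap A B '' maximalIdeal A) ∪ Set.range (y d c)) = maximalIdeal B := by
      rw [Ideal.span_union, hmax]; rfl
    refine Submodule.span_induction (p := fun x hx => (maximalIdeal B).toCotangent ⟨x, hle.le hx⟩ ∈ P) ?_ ?_ ?_ ?_ key
    · rintro x (⟨a, ha, rfl⟩ | ⟨i, rfl⟩)
      · exact Submodule.mem_sup_left ⟨(maximalIdeal A).toCotangent ⟨a, ha⟩, rfl⟩
      · exact Submodule.mem_sup_right (Submodule.subset_span ⟨i, rfl⟩)
    · exact (map_zero (maximalIdeal B).toCotangent).symm ▸ P.zero_mem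
    · intro x x' hx hx' h1 h2
      rw [show (⟨x + x', hle.le (add_mem hx hx')⟩ : maximalIdeal B) = ⟨x, hle.le hx⟩ + ⟨x', hle.le hx'⟩ from rfl, map_add]
      exact P.add_mem h1 h2
    · intro b x hx h1
      rw [show (⟨b • x, hle.le (Submodule.smul_mem _ b hx)⟩ : maximalIdeal B) = b • ⟨x, hle.le hx⟩ from rfl, map_smul]
      exact hP b _ h1
  have hexact : LinearMap.ker g = LinearMap.range ι := by
    refine le_antisymm (fun z hz => ?_) (by rintro _ ⟨u, rfl⟩; exact hgι u)
    have hzP : z ∈ P := by rw [hgen]; trivial
    obtain ⟨z₁, ⟨u, rfl⟩, z₂, hz₂, rfl⟩ := Submodule.mem_sup.1 hzP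
    obtain ⟨a, rfl⟩ := Submodule.mem_span_range_iff_exists_fun A |>.1 hz₂
    rw [LinearMap.mem_ker, map_add, hgι, zero_add, map_sum] at hz
    have ha : ∀ i, a i ∈ maximalIdeal A := fun i => by
      have := congrFun hz i
      simp only [map_smul, hgy, Finset.sum_apply, Pi.smul_apply, Pi.single_apply, smul_ite, smul_zero,
        Finset.sum_ite_eq, Finset.mem_univ, if_true, Pi.zero_apply] at this
      refine (residue_eq_zero_iff _).1 ?_
      rw [Algebra.smul_def, mul_one] at this
      exact this
    rw [Finset.sum_eq_zero (fun i _ => hzero _ (ha i) _), add_zero]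
    exact ⟨u, rfl⟩
  have hgsurj : Function.Surjective g := by
    intro v
    choose a ha using fun i => hKsurj (v i)
    refine ⟨∑ i, a i • (maximalIdeal B).toCotangent ⟨y d c i, hy i⟩, ?_⟩
    funext j
    simp only [map_sum, map_smul, hgy, Finset.sum_apply, Pi.smul_apply, Pi.single_apply, smul_ite, smul_zero,
      Finset.sum_ite_eq, Finset.mem_univ, if_true]
    rw [Algebra.smul_def, mul_one, ha]
  have hker : LinearMap.ker ι =
      (Submodule.span K (Set.range fun i => (maximalIdeal A).toCotangent ⟨c i 0, hc i 0⟩)).restrictScalars A := by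
    rw [Submodule.restrictScalars_span A K hKsurj]
    refine le_antisymm (fun u hu => ?_) (Submodule.span_le.2 ?_)
    · obtain ⟨x, rfl⟩ := (maximalIdeal A).toCotangent_surjective u
      rw [LinearMap.mem_ker, Ideal.mapCotangent_toCotangent, Ideal.toCotangent_eq_zero] at hu
      have hx : x.1 ∈ Ideal.span (Set.range fun i => c i 0) ⊔ maximalIdeal A ^ 2 := by
        rw [← comap_sq d c hd hc hmax]; exact hu
      obtain ⟨s, hs, t, ht, hst⟩ := Submodule.mem_sup.1 hx
      obtain ⟨a, rfl⟩ := Ideal.mem_span_range_iff_exists_fun.1 hs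
      rw [show (maximalIdeal A).toCotangent x = (maximalIdeal A).toCotangent (∑ i, a i • ⟨c i 0, hc i 0⟩) by
        rw [Ideal.toCotangent_eq]
        simpa [← hst] using ht]
      rw [map_sum]
      exact Submodule.sum_mem _ fun i _ => by rw [map_smul]; exact Submodule.smul_mem _ _ (Submodule.subset_span ⟨i, rfl⟩)
    · rintro _ ⟨i, rfl⟩
      rw [SetLike.mem_coe, LinearMap.mem_ker, Ideal.mapCotangent_toCotangent, Ideal.toCotangent_eq_zero]
      show c i 0 ∈ (maximalIdeal B ^ 2).comap (algebraMap A B)
      rw [comap_sq d c hd hc hmax]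
      exact Submodule.mem_sup_left (Ideal.subset_span ⟨i, rfl⟩)
  -- counting lengths
  have e1 := Module.length_eq_add_of_exact (LinearMap.ker ι).subtype ι.rangeRestrict
    (Submodule.subtype_injective _) ι.surjective_rangeRestrict
    (LinearMap.exact_iff.2 (by rw [LinearMap.ker_rangeRestrict, Submodule.range_subtype]))
  have e2 := Module.length_eq_add_of_exact (LinearMap.range ι).subtype g (Submodule.subtype_injective _) hgsurj
    (LinearMap.exact_iff.2 (by rw [hexact, Submodule.range_subtype]))
  have l1 : Module.length A (CotangentSpace A) = Module.finrank K (CotangentSpace A) := by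
    rw [Module.length_eq_of_surjective (R := K) hKsurj, Module.length_eq_finrank]
  have l2 : Module.length A (CotangentSpace B) = Module.finrank (ResidueField B) (CotangentSpace B) := by
    rw [Module.length_eq_of_surjective (R := ResidueField B) hBsurj, Module.length_eq_finrank]
  have l3 : Module.length A (Fin r → K) = r := by
    rw [Module.length_pi, Module.length_eq_of_surjective (R := K) hKsurj]
    simp
  have l4 : Module.length A (LinearMap.ker ι) = Module.finrank K
      (Submodule.span K (Set.range fun i => (maximalIdeal A).toCotangent ⟨c i 0, hc i 0⟩)) := by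
    rw [(LinearEquiv.ofEq _ _ hker).length_eq]
    change Module.length A (Submodule.span K (Set.range fun i => (maximalIdeal A).toCotangent ⟨c i 0, hc i 0⟩)) = _
    rw [Module.length_eq_of_surjective (R := K) hKsurj, Module.length_eq_finrank]
  have key : ((Module.finrank (ResidueField B) (CotangentSpace B) : ℕ∞) +
      Module.finrank K (Submodule.span K (Set.range fun i => (maximalIdeal A).toCotangent ⟨c i 0, hc i 0⟩))) =
      Module.finrank K (CotangentSpace A) + (r : ℕ∞) := by
    rw [← l2, ← l4, ← l1, ← l3, e1, e2]
    ac_rfl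
  exact_mod_cast key

/-- Over a regular local ring, `A[T]/(F)` is regular iff the constant terms are independent modulo `m²`. -/
theorem isRegularRing_iff_linearIndependent [IsRegularLocalRing A] (hd : ∀ i, 2 ≤ d i)
    (hc : ∀ i k, c i k ∈ maximalIdeal A) :
    IsRegularRing (Ring d c) ↔
      LinearIndependent (ResidueField A) (fun i => (maximalIdeal A).toCotangent ⟨c i 0, hc i 0⟩) := by
  haveI : IsDomain A := Groth.Agent.RegLocal.isDomain A
  have hd0 : ∀ i, 0 < d i := fun i => lt_of_lt_of_le two_pos (hd i)
  obtain ⟨hloc, -, -⟩ := isLocalRing d c hd0 hc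
  haveI := moduleFinite d c hd0
  haveI : IsNoetherianRing (Ring d c) := IsNoetherianRing.of_finite A _
  have hdim : ringKrullDim A = ringKrullDim (Ring d c) :=
    Groth.Agent.GrSegreLib.ringKrullDim_eq_of_integral_injective (algebraMap A (Ring d c))
      (injective_algebraMap d c hd0) (RingHom.IsIntegral.of_finite (RingHom.finite_algebraMap.2 inferInstance))
  have hA := (IsRegularLocalRing.iff_finrank_cotangentSpace A).1 inferInstance
  have hcount := finrank_cotangent d c hd hc
  have h1 : IsRegularRing (Ring d c) ↔ IsRegularLocalRing (Ring d c) := by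
    refine ⟨fun h => IsRegularLocalRing.of_isRegularRing_of_isLocalRing _, fun h => ?_⟩
    exact ⟨fun p _ => Groth.Agent.RegLocal.isRegularLocalRing_localization _ p⟩
  rw [h1, IsRegularLocalRing.iff_finrank_cotangentSpace, ← hdim, ← hA, linearIndependent_iff_card_eq_finrank_span,
    Fintype.card_fin, Set.finrank]
  constructor
  · intro h
    have : Module.finrank (ResidueField (Ring d c)) (CotangentSpace (Ring d c)) =
        Module.finrank (ResidueField A) (CotangentSpace A) := by exact_mod_cast h
    omega
  · intro h
    have : Module.finrank (ResidueField (Ring d c)) (CotangentSpace (Ring d c)) =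
        Module.finrank (ResidueField A) (CotangentSpace A) := by omega
    exact_mod_cast this

end Groth.Agent.EisensteinLib
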